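import Groth.Agent.S2894
import Groth.Agent.S2895
import Groth.Agent.S4991
import Groth.Agent.Lib.RegImm26.Apps
import Groth.Agent.Lib.EffCartier.Dense

/-!
# Blow-ups of regular schemes along regular centres are regular
-/

set_option linter.style.haveILetI false
set_option backward.isDefEq.respectTransparency false
set_option autoImplicit false

universe u

open CategoryTheory CategoryTheory.Limits AlgebraicGeometry TopologicalSpace

namespace Groth.Agent.BlowUpReg6

theorem isFiniteTypeIdeal {X : Scheme.{u}} [IsLocallyNoetherian X] (C : X.IdealSheafData) :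
    BlowUp.IsFiniteTypeIdeal C := fun U => by
  haveI : IsNoetherianRing Γ(X, U.1) := IsLocallyNoetherian.component_noetherian U
  exact IsNoetherian.noetherian _

/-- A blow-up of a regular scheme along a regular closed subscheme is regular. -/
theorem isRegularLocalRing_stalk {X Y Xt : Scheme.{u}} (i : Y ⟶ X) [IsClosedImmersion i]
    [IsLocallyNoetherian X] (hX : ∀ x : X, IsRegularLocalRing (X.presheaf.stalk x))
    (hY : ∀ y : Y, IsRegularLocalRing (Y.presheaf.stalk y))
    (b : Xt ⟶ X) (hb : BlowUp.IsBlowUp b i.ker) (z : Xt) : IsRegularLocalRing (Xt.presheaf.stalk z) := by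
  haveI : IsLocallyNoetherian Y := LocallyOfFiniteType.isLocallyNoetherian i
  haveI : IsProper b := BlowUpExist.isProper (isFiniteTypeIdeal i.ker) hb
  haveI : IsLocallyNoetherian Xt := LocallyOfFiniteType.isLocallyNoetherian b
  by_cases hz : z ∈ (BlowUp.exceptional b i.ker).support
  · let E := BlowUp.exceptional b i.ker
    have hle : i.ker ≤ (E.subschemeι ≫ b).ker := by
      rw [← Scheme.IdealSheafData.map_ker, Scheme.IdealSheafData.ker_subschemeι]
      exact Scheme.IdealSheafData.le_map_comap _ _
    let g : E.subscheme ⟶ Y := IsClosedImmersion.lift i (E.subschemeι ≫ b) hle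
    have hg : g ≫ i = E.subschemeι ≫ b := IsClosedImmersion.lift_fac _ _ _
    have hi : Mor2.IsRegularClosedImmersion i := (RegImm26.regularClosedImmersion_iff i).2
      ⟨inferInstance, RegImm26.regular_of_regular_schemes i hX hY⟩
    haveI : Smooth g := S2894.result i hi b hb g hg
    rw [← SetLike.mem_coe, ← Scheme.IdealSheafData.range_subschemeι] at hz
    obtain ⟨w, rfl⟩ := hz
    haveI := hY (g w)
    haveI : IsRegularLocalRing (E.subscheme.presheaf.stalk w) :=
      (S4991.result g w ⟨⊤, trivial, inferInstance⟩).2 ‹_›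
    exact S2895.isRegularLocalRing_of_effCartier hb.1 w
  · let U : X.Opens := i.ker.support.compl
    haveI : IsIso (b ∣_ U) := EffCartier.isIso_blowUp_restrict hb
    have hzU : z ∈ b ⁻¹ᵁ U := by
      intro hh
      exact hz (by rw [BlowUp.exceptional, Scheme.IdealSheafData.support_comap]; exact hh)
    let u : (b ⁻¹ᵁ U).toScheme := ⟨z, hzU⟩
    haveI := hX (b z)
    haveI : IsRegularLocalRing (U.toScheme.presheaf.stalk ((b ∣_ U) u)) :=
      IsRegularLocalRing.of_ringEquiv (asIso (U.ι.stalkMap ((b ∣_ U) u))).commRingCatIsoToRingEquiv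
    haveI : IsRegularLocalRing ((b ⁻¹ᵁ U).toScheme.presheaf.stalk u) :=
      IsRegularLocalRing.of_ringEquiv (asIso ((b ∣_ U).stalkMap u)).commRingCatIsoToRingEquiv
    exact IsRegularLocalRing.of_ringEquiv (asIso ((b ⁻¹ᵁ U).ι.stalkMap u)).symm.commRingCatIsoToRingEquiv

end Groth.Agent.BlowUpReg6
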